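import Cfsg.Agent.H493.RatB.WitS
import Cfsg.Agent.H846.RatB.Gal
import Cfsg.Agent.H1.J2Cover
import Cfsg.Agent.NotCT.Orders
import Cfsg.Agent.H685.BR.Defs

/-!
# S4891 (TEAM B0-RAT), the row `p = 3` of the Hall-Janko group (helper528)

`j2_three : WitS 3 S`, `j2_three57 : Row57 3 S` (all characters are real and 3-rational).

* `pRat_of_pow` : `g ^ m ~ g` for all `m` prime to `|G|` with `m ≡ 1` modulo `n` (`p ∤ n`): every character of `G` is
  `p`-rational;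
* `witS_of_pow` : the same, `p ∣ |G|`: `WitS p G` (`k₀(B₀) ≥ 2`, the regular action).
-/

set_option autoImplicit false
set_option maxRecDepth 100000

namespace Cfsg.Agent.H528.RatB.J2

open Cfsg Cfsg.Agent.H145.BR Cfsg.Agent.H493.RatB
open Cfsg.Agent.H700.PRat (zet zet_prim)

universe u

/-! ### tools -/

/-- a field automorphism fixing `ζ_n` raises the roots of unity of order `|G|` to a power `m ≡ 1` modulo `n` -/
theorem exists_pow {G : Type u} [Group G] [Finite G] {n : ℕ} (hn : n ≠ 0) (σ : ℂ ≃+* ℂ) (hσ : σ (zet n) = zet n) :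
    ∃ m : ℕ, m.Coprime (Nat.card G) ∧ m ≡ 1 [MOD n] ∧ ∀ χ : G → ℂ, IsCharacter G χ → ∀ g : G, σ (χ g) = χ (g ^ m) := by
  have hN : Nat.card G * n ≠ 0 := mul_ne_zero Nat.card_pos.ne' hn
  obtain ⟨m, hm, h⟩ := Characters.GaloisBasic.exists_coprime_pow (σ : ℂ →+* ℂ) hN
  refine ⟨m, hm.coprime_dvd_right (dvd_mul_right _ _), ?_, fun χ hχ g => ?_⟩
  · have h1 : (zet n) ^ m = (zet n) ^ 1 := by
      have h2 : σ (zet n) = (zet n) ^ m := h _ (by rw [mul_comm, pow_mul, (zet_prim hn).pow_eq_one, one_pow])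
      rw [← h2, hσ, pow_one]
    have h3 := pow_inj_mod.1 (show (Units.mk0 (zet n) (Complex.exp_ne_zero _)) ^ m =
      (Units.mk0 (zet n) (Complex.exp_ne_zero _)) ^ 1 from Units.ext (by simpa using h1))
    rwa [← orderOf_units, Units.val_mk0, ← (zet_prim hn).eq_orderOf] at h3
  · exact Characters.GaloisBasic.map_apply_card σ (fun z hz => h z (by rw [pow_mul, hz, one_pow])) hχ g

theorem pRat_of_pow {G : Type u} [Group G] [Finite G] {p n : ℕ} (hn : ¬ p ∣ n)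
    (h : ∀ (g : G) (m : ℕ), m.Coprime (Nat.card G) → m ≡ 1 [MOD n] → IsConj (g ^ m) g) {χ : G → ℂ}
    (hχ : IsIrrCharacter G χ) : PRat p χ := by
  have hn0 : n ≠ 0 := fun h0 => hn (h0 ▸ dvd_zero p)
  have hc : IsCharacter G χ := Blocks.Basic.irr_isCharacter hχ
  refine (H846.RatB.pRatC_iff (H846.RatB.integral_irr hc)).2 ⟨n, hn, fun σ hσ g => ?_⟩
  obtain ⟨m, h1, h2, h3⟩ := exists_pow (G := G) hn0 σ hσ
  rw [h3 χ hc]
  exact Blocks.Basic.irr_isConj hχ (h g m h1 h2)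

/-- `k₀(B₀) ≥ 2` -/
theorem witS_of_all {G : Type u} [Group G] [Finite G] {p : ℕ} [hp : Fact p.Prime] (hd : p ∣ Nat.card G)
    (h : ∀ χ : IrrCharacter G, PRat p (χ : G → ℂ)) : WitS p G := by
  have := Fintype.ofFinite G
  exact witS_of_dvd (X := G) hd fun χ _ _ _ => h χ

theorem witS_of_pow {G : Type u} [Group G] [Finite G] {p n : ℕ} [hp : Fact p.Prime] (hd : p ∣ Nat.card G)
    (hn : ¬ p ∣ n) (h : ∀ (g : G) (m : ℕ), m.Coprime (Nat.card G) → m ≡ 1 [MOD n] → IsConj (g ^ m) g) : WitS p G :=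
  witS_of_all hd fun χ => pRat_of_pow hn h χ.2

/-! ### the Hall-Janko group -/

open Cfsg.Agent.SporadicA.PermTab Cfsg.Agent.SporadicA.J2Hundred Cfsg.Agent.J2.HundredGens
open Cfsg.Agent.H1.J2Cls Cfsg.Agent.H1.J2Cover

/-- powers of a word -/
def pwr (L : List ℕ) (n : ℕ) : List ℕ := Nat.rec [] (fun _ ih => L ++ ih) n

theorem gw_pwr (L : List ℕ) (n : ℕ) : gw (pwr L n) = gw L ^ n := by
  induction n with
  | zero => exact gw_nil.trans (pow_zero _).symm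
  | succ n ih =>
    have h : pwr L (n + 1) = L ++ pwr L n := rfl
    rw [h, gw_append, ih, pow_succ']

/-- the orders -/
def od (j : ℕ) : ℕ :=
  match j with
  | 0 => 1
  | 1 => 2
  | 2 => 2
  | 3 => 5
  | 4 => 3
  | 5 => 8
  | 6 => 3
  | 7 => 5
  | 8 => 10
  | 9 => 6
  | 10 => 6
  | 11 => 12
  | 12 => 10
  | 13 => 15
  | 14 => 4
  | 15 => 10
  | 16 => 15
  | 17 => 10
  | 18 => 7
  | 19 => 5
  | _ => 5

/-- the conjugators -/
def cj (j : ℕ) : List ℕ :=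
  match j with
  | 4 => [1]
  | 6 => [3]
  | 9 => [3]
  | 10 => [1]
  | 11 => [1, 2, 3, 4, 1, 2, 3, 1, 2, 3, 4, 1, 2, 3, 2, 1, 0, 1, 2, 3, 4, 2, 3, 2, 0, 1, 0, 1]
  | 13 => [3]
  | 16 => [2, 3, 1, 2, 1, 0, 1, 0]
  | _ => []

theorem od_dvd : ∀ j < 21, od j ∣ 840 := by decide +kernel

theorem chk_od : ∀ j < 21, ∀ i < 4, run (pwr (rL j) (od j)) (bs i) = run [] (bs i) := by decide +kernel

theorem chk_cj : ∀ j < 21, ∀ i < 4, run (cj j ++ rL j ++ (cj j).reverse) (bs i) =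
    run (pwr (rL j) (281 % od j)) (bs i) := by decide +kernel

theorem rep_od {j : ℕ} (hj : j < 21) : gw (rL j) ^ od j = 1 := by
  rw [← gw_pwr, ← gw_nil]
  exact Subtype.ext (pw_eq_of_base (chk_od j hj))

theorem rep_cj {j : ℕ} (hj : j < 21) : gw (cj j) * gw (rL j) * (gw (cj j))⁻¹ = gw (rL j) ^ 281 := by
  rw [pow_eq_pow_mod 281 (rep_od hj), ← gw_pwr, ← gw_reverse, ← gw_append, ← gw_append]
  exact Subtype.ext (pw_eq_of_base (chk_cj j hj))

/-- every element is conjugate to its powers of exponent `1` modulo `280` -/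
theorem isConj_pow (g : G) (m : ℕ) (hm : m.Coprime 604800) (h1 : m ≡ 1 [MOD 280]) : IsConj (g ^ m) g := by
  obtain ⟨j, hj, c, hc⟩ := cover g
  have h840 : gw (rL j) ^ 840 = 1 := by
    obtain ⟨k, hk⟩ := od_dvd j hj
    rw [hk, pow_mul, rep_od hj, one_pow]
  have hcg : IsConj g (gw (rL j)) := isConj_iff.2 ⟨c, hc⟩
  have hcm : IsConj (g ^ m) (gw (rL j) ^ m) := isConj_iff.2 ⟨c, by rw [← hc, conj_pow]⟩
  refine hcm.trans (IsConj.trans ?_ hcg.symm)
  have h3 : m % 3 = 1 ∨ m % 3 = 2 := by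
    have h4 : ¬ 3 ∣ m := by
      intro h5
      have := Nat.dvd_gcd h5 (show 3 ∣ 604800 by norm_num)
      rw [hm] at this
      norm_num at this
    omega
  have h280 : m % 280 = 1 := h1
  rw [pow_eq_pow_mod m h840]
  rcases h3 with h3 | h3
  · have : m % 840 = 1 := by omega
    rw [this, pow_one]
  · have : m % 840 = 281 := by omega
    rw [this]
    exact (isConj_iff.2 ⟨_, rep_cj hj⟩).symm

/-- **S4891, `J2`, `p = 3`** -/
theorem j2_three {S : Type} [Group S] (h : Spor.IsoJ2 S) : WitS 3 S := by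
  obtain ⟨f⟩ := J2.HundredGens.J2_iso (NotCT.Orders.j2 ⟨MulEquiv.refl _⟩)
  obtain ⟨e⟩ := h
  have hf : Finite S := Finite.of_equiv _ (e.trans f).symm.toEquiv
  refine WitS.congr (e.trans f) (witS_of_pow (n := 280) ?_ (by norm_num) fun g m h1 h2 => ?_)
  · rw [card_G]; norm_num
  · rw [card_G] at h1
    exact isConj_pow g m h1 h2

/-! ### S4857 -/

/-- the conjugators to the inverse -/
def ci (j : ℕ) : List ℕ :=
  match j with
  | 3 => [0]
  | 4 => [1]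
  | 5 => [2]
  | 6 => [3]
  | 7 => [2, 0]
  | 8 => [0]
  | 9 => [3]
  | 10 => [1]
  | 11 => [4, 2]
  | 12 => [2, 0]
  | 13 => [3, 0]
  | 14 => [2]
  | 15 => [3, 4, 3, 0, 1, 0]
  | 16 => [3, 1]
  | 17 => [3, 4, 3, 0]
  | 18 => [3, 4, 2, 3, 1, 2, 3, 4, 2, 3, 1, 2, 3, 1]
  | 19 => [3, 4, 3, 0, 1, 0]
  | 20 => [3, 4, 2, 3, 0]
  | _ => []

theorem chk_ci : ∀ j < 21, ∀ i < 4, run (ci j ++ rL j ++ (ci j).reverse) (bs i) = run (rL j).reverse (bs i) := by
  decide +kernel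

theorem rep_ci {j : ℕ} (hj : j < 21) : gw (ci j) * gw (rL j) * (gw (ci j))⁻¹ = (gw (rL j))⁻¹ := by
  rw [← gw_reverse, ← gw_reverse, ← gw_append, ← gw_append]
  exact Subtype.ext (pw_eq_of_base (chk_ci j hj))

/-- every element is conjugate to its inverse -/
theorem isConj_inv (g : G) : IsConj g g⁻¹ := by
  obtain ⟨j, hj, c, hc⟩ := cover g
  have h1 : IsConj g (gw (rL j)) := isConj_iff.2 ⟨c, hc⟩
  have h2 : IsConj g⁻¹ (gw (rL j))⁻¹ := isConj_iff.2 ⟨c, by rw [← hc]; group⟩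
  exact h1.trans ((isConj_iff.2 ⟨_, rep_ci hj⟩ : IsConj (gw (rL j)) (gw (rL j))⁻¹).trans h2.symm)

theorem real_of_conj_inv {X : Type u} [Group X] [Finite X] (h : ∀ g : X, IsConj g g⁻¹) {χ : X → ℂ}
    (hχ : IsIrrCharacter X χ) (g : X) : (χ g).im = 0 := by
  have h1 := Blocks.Orthogonality.irr_apply_inv hχ g
  rw [← Blocks.Basic.irr_isConj hχ (h g)] at h1
  have h2 := congrArg Complex.im h1
  rw [Complex.conj_im] at h2
  linarith

/-- **S4857, `J2`, `p = 3`** -/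
theorem j2_three57 {S : Type} [Group S] (h : Spor.IsoJ2 S) : H685.BR.Row57 3 S := by
  obtain ⟨f⟩ := J2.HundredGens.J2_iso (NotCT.Orders.j2 ⟨MulEquiv.refl _⟩)
  obtain ⟨e⟩ := id h
  have hf : Finite S := Finite.of_equiv _ (e.trans f).symm.toEquiv
  intro M hM
  obtain ⟨θ, h1, h2, -, h4⟩ := j2_three h M hM
  refine ⟨θ, h1, h2, H685.BR.good_of_real_pRat rfl (real_of_conj_inv (fun g => ?_) θ.2) h4⟩
  obtain ⟨c, hc⟩ := isConj_iff.1 (isConj_inv ((e.trans f) g))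
  refine isConj_iff.2 ⟨(e.trans f).symm c, (e.trans f).injective ?_⟩
  rw [map_mul, map_mul, map_inv, map_inv, MulEquiv.apply_symm_apply, hc]

end Cfsg.Agent.H528.RatB.J2
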