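import Cfsg.Agent.H235.Ore.He
import Cfsg.Agent.H852.RatB.Arith

/-!
# S4857 (TEAM B0-RAT), the row `p = 5` of the Held group (helper528)

`he_five57 : RowQ 5 S`.

In `He` every element `g` of order divisible by 7 satisfies `g ^ 37 ~ g` (`37 ≡ 2` modulo 7 and `37 ≡ 1` modulo 12),
checked on the representatives of the classes of helper235; the elements of order 5 are rational.
-/

set_option autoImplicit false
set_option maxRecDepth 100000

namespace Cfsg.Agent.H528.RatB.HeFive

open Subgroup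
open Cfsg.Spor.He (Gen)
open Cfsg.Agent.SporadicB.HePerm (wd)
open Cfsg.Agent.FixBN.HeStab Cfsg.Agent.KFacts.He.Lv Cfsg.Agent.CpAutHe.Cnt
open Cfsg.Agent.H235.Ore.HeEng Cfsg.Agent.H235.Ore.HeCert Cfsg.Agent.H235.Ore.He
open Cfsg.Agent.H153.Zeros.He17 (W17 o17)
open Cfsg.Agent.H19.Odd.HeCnt (XB XC)
open Cfsg.Agent.H852.RatB Cfsg.Agent.H145.BR

theorem conj_of {X C : List Gen} {k : ℕ} (h : chkB (C ++ X) (pw X k ++ C) = true) : IsConj (wd X ^ k) (wd X) := by
  have h1 := eq_of_chkB h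
  rw [wd_append, wd_append, wd_pw] at h1
  refine (isConj_iff.2 ⟨wd C, ?_⟩ : IsConj (wd X) (wd X ^ k)).symm
  rw [h1, mul_inv_cancel_right]

theorem s5A : IsConj (wd x5A ^ 2) (wd x5A) :=
  conj_of (C := [.b, .a, .e, .d, .b, .c, .d, .e]) (by decide +kernel)
theorem s7A : IsConj (wd x7A ^ 2) (wd x7A) :=
  conj_of (C := [.d, .g, .d, .e]) (by decide +kernel)
theorem s7D : IsConj (wd x7D ^ 2) (wd x7D) :=
  conj_of (C := [.e, .d, .c, .f, .d, .c, .b, .a, .f, .d, .e, .c, .g, .d, .g, .e, .c, .b, .e, .d, .e, .c, .d, .c, .d, .b, .c, .a]) (by decide +kernel)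
theorem s7C : IsConj (wd XC ^ 2) (wd XC) :=
  conj_of (C := [.d, .c, .b, .g, .d, .c, .d, .c, .f, .d, .c, .d, .g, .b, .c, .d, .f, .d, .g, .d]) (by decide +kernel)
theorem s14A : IsConj (wd x14A ^ 9) (wd x14A) :=
  conj_of (C := [.d, .g, .d, .e]) (by decide +kernel)
theorem s14C : IsConj (wd x14C ^ 9) (wd x14C) :=
  conj_of (C := [.e, .g, .d, .c, .d, .c, .f, .d, .c, .a, .e, .b, .c, .d, .f, .c, .b, .c, .d, .c, .d, .f, .d, .g, .d, .f]) (by decide +kernel)
theorem s21A : IsConj (wd x21A ^ 16) (wd x21A) :=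
  conj_of (C := [.a, .b, .e, .d, .c, .b, .d, .c, .d, .e, .c]) (by decide +kernel)
theorem s21C : IsConj (wd x21C ^ 16) (wd x21C) :=
  conj_of (C := [.a, .c, .b, .f, .g, .d, .c, .b, .d, .c, .d, .b, .c, .d, .g, .f, .b, .a]) (by decide +kernel)
theorem s28A : IsConj (wd x28A ^ 9) (wd x28A) :=
  conj_of (C := [.d, .g, .d, .e]) (by decide +kernel)

/-- what is checked -/
def Q (g : Cfsg.Spor.He) : Prop :=
  orderOf g ∣ 14280 ∧ (7 ∣ orderOf g → orderOf g ∣ 84 ∧ IsConj (g ^ 37) g)

theorem Q_conj {x y : Cfsg.Spor.He} (h : IsConj x y) (hx : Q x) : Q y := by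
  obtain ⟨h1, h2⟩ := hx
  have ho := ord_conj h
  refine ⟨ho ▸ h1, fun h7 => ?_⟩
  obtain ⟨h3, h4⟩ := h2 (ho ▸ h7)
  exact ⟨ho ▸ h3, ((h.symm.pow 37).trans h4).trans h⟩

theorem Q_inv {x : Cfsg.Spor.He} (hx : Q x) : Q x⁻¹ := by
  obtain ⟨h1, h2⟩ := hx
  refine ⟨by rwa [orderOf_inv], fun h7 => ?_⟩
  rw [orderOf_inv] at h7 ⊢
  obtain ⟨h3, h4⟩ := h2 h7
  refine ⟨h3, ?_⟩
  rw [inv_pow]
  obtain ⟨c, hc⟩ := isConj_iff.1 h4
  exact isConj_iff.2 ⟨c, by rw [← conj_inv, hc]⟩

theorem Q_seven {x : Cfsg.Spor.He} {n k : ℕ} (ho : orderOf x = n) (hn : n ∣ 84) (hk : 37 % n = k)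
    (h : IsConj (x ^ k) x) : Q x := by
  subst ho
  refine ⟨hn.trans (by norm_num), fun _ => ⟨hn, ?_⟩⟩
  rwa [← pow_mod_orderOf, hk]

theorem Q_ord {x : Cfsg.Spor.He} {n : ℕ} (ho : orderOf x = n) (hn : n ∣ 2040) : Q x := by
  subst ho
  exact ⟨hn.trans (by norm_num), fun h => absurd (h.trans hn) (by norm_num)⟩

theorem Q_all (g : Cfsg.Spor.He) : Q g := by
  refine all_model Q (fun x y h k => Q_conj h k) (fun a ha => ?_) (fun a b ha hb p hp => ?_) g
  · by_cases h1 : a = 1
    · exact Q_ord (by rw [h1, orderOf_one]) (one_dvd _)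
    · exact Q_ord (ord_mem ha h1) (by norm_num)
  simp only [L, List.mem_cons, List.not_mem_nil, or_false] at hp
  have e21 : IsConj ((wd x21A ^ 2) ^ 16) (wd x21A ^ 2) := by
    rw [← pow_mul, mul_comm, pow_mul]
    exact s21A.pow 2
  rcases hp with rfl | rfl | rfl | rfl | rfl | rfl | rfl | rfl | rfl | rfl | rfl | rfl | rfl | rfl | rfl | rfl | rfl | rfl | rfl | rfl | rfl | rfl | rfl | rfl | rfl | rfl | rfl | rfl | rfl | rfl | rfl | rfl | rfl
  · exact ha
  · exact hb
  · exact Q_ord orderOf_one (one_dvd _)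
  · exact Q_seven o21A (by norm_num) (by norm_num) s21A
  · exact Q_seven o21B (by norm_num) (by norm_num) e21
  · exact Q_ord o2A (by norm_num)
  · exact Q_ord o2B (by norm_num)
  · exact Q_ord o3A (by norm_num)
  · exact Q_ord o3B (by norm_num)
  · exact Q_ord o4A (by norm_num)
  · exact Q_ord o4B (by norm_num)
  · exact Q_ord o4C (by norm_num)
  · exact Q_ord o6A (by norm_num)
  · exact Q_ord o6B (by norm_num)
  · exact Q_ord o12A (by norm_num)
  · exact Q_ord o12B (by norm_num)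
  · exact Q_ord o5A (by norm_num)
  · exact Q_ord o8A (by norm_num)
  · exact Q_ord o10A (by norm_num)
  · exact Q_ord o15A (by norm_num)
  · exact Q_seven o14A (by norm_num) (by norm_num) s14A
  · exact Q_inv (Q_seven o14A (by norm_num) (by norm_num) s14A)
  · exact Q_seven o14C (by norm_num) (by norm_num) s14C
  · exact Q_inv (Q_seven o14C (by norm_num) (by norm_num) s14C)
  · exact Q_seven o28A (by norm_num) (by norm_num) s28A
  · exact Q_inv (Q_seven o28A (by norm_num) (by norm_num) s28A)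
  · exact Q_seven o7A (by norm_num) (by norm_num) s7A
  · exact Q_inv (Q_seven o7A (by norm_num) (by norm_num) s7A)
  · exact Q_seven o7C (by norm_num) (by norm_num) s7C
  · exact Q_seven o7D (by norm_num) (by norm_num) s7D
  · exact Q_inv (Q_seven o7D (by norm_num) (by norm_num) s7D)
  · exact Q_seven o21C (by norm_num) (by norm_num) s21C
  · exact Q_inv (Q_seven o21C (by norm_num) (by norm_num) s21C)

/-- the odd part of the inertia group at 7 fixes every class -/
theorem tOdd_he : TOdd 7 Cfsg.Spor.He := by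
  have hfin : Finite Cfsg.Spor.He := finite_he
  intro x y hxy hx hy k hk hm
  rcases eq_or_ne x 1 with rfl | hx1
  · rw [one_pow]
  -- the order of `x` is 7
  have hxo : orderOf x = 7 := by
    obtain ⟨a, ha⟩ := hx
    have h7 : 7 ∣ orderOf x := by
      rw [ha]
      refine dvd_pow_self 7 fun h0 => hx1 (orderOf_eq_one_iff.1 (by rw [ha, h0, pow_zero]))
    have h84 := ((Q_all x).2 h7).1
    rw [ha] at h84 h7
    rcases a with _ | _ | a
    · norm_num at h7
    · exact ha
    · exact absurd ((pow_dvd_pow 7 (show 2 ≤ a + 1 + 1 by omega)).trans h84) (by norm_num)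
  rw [hxo] at hm
  -- squaring the 7-part
  have key : ∀ z : Cfsg.Spor.He, orderOf z = 7 → Commute z y → IsConj (z ^ 2 * y) (z * y) := by
    intro z hz hzy
    have hco : Nat.Coprime (orderOf z) (orderOf y) := by
      rw [hz]
      exact (Nat.Prime.coprime_iff_not_dvd (by norm_num)).2 hy
    have ho : orderOf (z * y) = 7 * orderOf y := by
      rw [hzy.orderOf_mul_eq_mul_orderOf_of_coprime hco, hz]
    obtain ⟨h1, h2⟩ := (Q_all (z * y)).2 (ho ▸ dvd_mul_right 7 _)
    rw [ho, show 84 = 7 * 12 from rfl] at h1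
    have h3 : orderOf y ∣ 12 := Nat.dvd_of_mul_dvd_mul_left (by norm_num) h1
    rw [hzy.mul_pow] at h2
    have h4 : z ^ 37 = z ^ 2 := by rw [← pow_mod_orderOf, hz]
    have h5 : y ^ 37 = y := by
      rw [show 37 = 36 + 1 from rfl, pow_succ, orderOf_dvd_iff_pow_eq_one.1 (h3.trans (by norm_num)), one_mul]
    rwa [h4, h5] at h2
  have hx2 : orderOf (x ^ 2) = 7 := by
    rw [orderOf_pow, hxo]
    norm_num
  have k2 := key x hxo hxy
  have k4 := key (x ^ 2) hx2 (hxy.pow_left 2)
  rw [← pow_mul] at k4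
  have hk7 : k % 7 = 1 ∨ k % 7 = 2 ∨ k % 7 = 4 := by
    obtain ⟨m, hm1, hm2⟩ := hm
    have e1 : (k % 7) ^ m ≡ 1 [MOD 7] := ((Nat.mod_modEq k 7).pow m).trans hm2
    have hlt : k % 7 < 7 := Nat.mod_lt _ (by norm_num)
    obtain ⟨j, rfl⟩ := hm1
    generalize k % 7 = r at e1 hlt
    -- `r ^ (2 j + 1) = 1`, so `r` is a square
    have e2 : ((r : ZMod 7)) ^ (2 * j + 1) = 1 := by
      have := (ZMod.natCast_eq_natCast_iff _ _ _).2 e1
      push_cast at this
      exact this
    have e3 : (((r : ZMod 7)) ^ (j + 1)) ^ 2 = (r : ZMod 7) := by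
      rw [← pow_mul, show (j + 1) * 2 = (2 * j + 1) + 1 by ring, pow_succ, e2, one_mul]
    have e4 : ((r : ZMod 7)) ≠ 0 := by
      intro h0
      rw [h0, zero_pow (by omega)] at e2
      exact absurd e2 (by decide)
    generalize ((r : ZMod 7)) ^ (j + 1) = t at e3
    interval_cases r
    · exact absurd rfl e4
    · exact Or.inl rfl
    · exact Or.inr (Or.inl rfl)
    · exact absurd e3 (by revert t; decide)
    · exact Or.inr (Or.inr rfl)
    · exact absurd e3 (by revert t; decide)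
    · exact absurd e3 (by revert t; decide)
  rw [← pow_mod_orderOf, hxo]
  rcases hk7 with h | h | h <;> rw [h]
  · rw [pow_one]
  · exact k2
  · exact k4.trans k2

/-- the elements of order 5 are rational -/
theorem ratEl_he : RatEl (wd x5A) := by
  intro k hk
  have h5 : Nat.Coprime k 5 := hk.coprime_dvd_right (by rw [card_he]; norm_num)
  have h0 : k % 5 ≠ 0 := fun h => by
    have := Nat.dvd_of_mod_eq_zero h
    have h1 := Nat.eq_one_of_dvd_coprimes h5 this (dvd_refl 5)
    norm_num at h1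
  have hlt : k % 5 < 5 := Nat.mod_lt _ (by norm_num)
  rw [← pow_mod_orderOf, o5A]
  have p1 : wd x5A ^ 5 = 1 := by rw [← o5A, pow_orderOf_eq_one]
  have h4 : IsConj (wd x5A ^ 4) (wd x5A) := by
    have := s5A.pow 2
    rw [← pow_mul] at this
    exact this.trans s5A
  have h3 : IsConj (wd x5A ^ 3) (wd x5A) := by
    have := h4.pow 2
    rw [← pow_mul, show 4 * 2 = 5 + 3 from rfl, pow_add, p1, one_mul] at this
    exact this.trans s5A
  generalize k % 5 = r at h0 hlt
  interval_cases r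
  · exact absurd rfl h0
  · rw [pow_one]
  · exact s5A
  · exact h3
  · exact h4

theorem isConj_of_map {A B : Type*} [Group A] [Group B] (e : A ≃* B) {x y : A} (h : IsConj (e x) (e y)) :
    IsConj x y := by
  have h1 := MonoidHom.map_isConj (e.symm : B →* A) h
  simpa using h1

/-- **The row `(He, 5)`.** -/
theorem he_five57 {S : Type*} [Group S] (h : Cfsg.Spor.IsoHe S) : RowQ 5 S := by
  obtain ⟨e⟩ := h
  have hfin' : Finite Cfsg.Spor.He := finite_he
  have hfin : Finite S := Finite.of_equiv _ e.symm.toEquiv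
  have : Fact (Nat.Prime 5) := ⟨by norm_num⟩
  have hord : ∀ g : S, orderOf (e g) = orderOf g := fun g => e.orderOf_eq g
  refine rowQ_of_all (x := e.symm (wd x5A)) (by rw [e.symm.orderOf_eq, o5A]) ?_ (L := [7]) (fun r hr => ?_)
    (genL_group (by norm_num) (N := 2040) (k := 9) (by decide +kernel) fun g => ?_)
  · intro k hk
    rw [Nat.card_congr e.toEquiv] at hk
    refine isConj_of_map e ?_
    rw [map_pow, MulEquiv.apply_symm_apply]
    exact ratEl_he k hk
  · rw [List.mem_singleton] at hr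
    subst hr
    refine ⟨by norm_num, fun x y hxy hx hy k hk hm => isConj_of_map e ?_⟩
    rw [map_mul, map_mul, map_pow]
    exact tOdd_he (e x) (e y) (hxy.map e) (by rwa [hord]) (by rwa [hord]) k hk (by rwa [hord])
  · rw [← hord]
    generalize e g = g
    have h0 : orderOf g ≠ 0 := (orderOf_pos g).ne'
    have h1 := (Q_all g).1
    rw [show 14280 = 2040 * 7 from rfl] at h1
    have h2 : ¬ 7 ∣ orderOf g / 7 ^ (orderOf g).factorization 7 := Nat.not_dvd_ordCompl (by norm_num) h0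
    exact ((Nat.coprime_comm.1 ((Nat.Prime.coprime_iff_not_dvd (by norm_num)).2 h2))).dvd_of_dvd_mul_right
      ((Nat.ordCompl_dvd _ _).trans h1)

end Cfsg.Agent.H528.RatB.HeFive
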